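import Mathlib
import Groth.Prelude.Def_W4c5flasquetoriphsGLat

/-!
# Flasque and coflasque resolutions of lattices over a finite group
-/

namespace Groth.Agent.GLatLib

open GLat

variable {G : Type} [Group G] [Finite G]

/-- The permutation representation on finitely supported functions on a `G`-set. -/
noncomputable def perm (ι : Type) [MulAction G ι] : Representation ℤ G (ι →₀ ℤ) where
  toFun g := Finsupp.lmapDomain ℤ ℤ (g • ·)
  map_one' := LinearMap.ext fun x => Finsupp.ext fun i => by simp [← Function.id_def, Finsupp.mapDomain_id]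
  map_mul' g h := LinearMap.ext fun x => by
    simp only [Finsupp.lmapDomain_apply, Module.End.mul_apply, ← Finsupp.mapDomain_comp]
    congr 1
    funext i
    exact mul_smul g h i

theorem perm_single {ι : Type} [MulAction G ι] (g : G) (i : ι) (c : ℤ) :
    perm ι g (Finsupp.single i c) = Finsupp.single (g • i) c := Finsupp.mapDomain_single

theorem perm_apply {ι : Type} [MulAction G ι] (g : G) (x : ι →₀ ℤ) (i : ι) :
    perm ι g x i = x (g⁻¹ • i) := by
  have := Finsupp.mapDomain_apply (f := (g • · : ι → ι)) (MulAction.injective g) x (g⁻¹ • i)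
  rw [smul_inv_smul] at this
  exact this

theorem perm_isPermutation (ι : Type) [MulAction G ι] : IsPermutation (perm (G := G) ι) :=
  ⟨ι, Finsupp.basisSingleOne, fun g i => ⟨g • i, by simp [perm_single]⟩⟩

theorem perm_coflasque (ι : Type) [Finite ι] [MulAction G ι] : IsCoflasque (perm (G := G) ι) := by
  intro H f hf
  haveI := Fintype.ofFinite ι
  haveI := Fintype.ofFinite H
  set n : ℤ := (Fintype.card H : ℤ)
  have hn : n ≠ 0 := by simp [n, Fintype.card_ne_zero]
  let M : ι →₀ ℤ := ∑ b, f b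
  refine ⟨Finsupp.equivFunOnFinite.symm fun i => (- M i) / n, fun a => Finsupp.ext fun i => ?_⟩
  have h1 : M i = n * f a i + M ((a : G)⁻¹ • i) := by
    have e : M = n • f a + perm ι (a : G) M := by
      conv_lhs => rw [show M = ∑ b, f (a * b) from (Fintype.sum_equiv (Equiv.mulLeft a) _ _ (fun b => rfl)).symm]
      simp only [hf, Finset.sum_add_distrib, Finset.sum_const, Finset.card_univ, M, map_sum, n, natCast_zsmul]
    have := congrArg (fun x => x i) e
    simpa [perm_apply] using this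
  simp only [Finsupp.sub_apply, perm_apply, Finsupp.equivFunOnFinite_symm_apply_apply]
  rw [show - M ((a : G)⁻¹ • i) = -M i + n * f a i by rw [h1]; ring, Int.add_mul_ediv_left _ _ hn]
  ring

omit [Finite G] in
theorem norm_sub_mem {A : Type} [AddCommGroup A] (ρ : Representation ℤ G A) {H : Subgroup G} [Fintype H] {x : A}
    (hx : x ∈ Submodule.span ℤ {x : A | ∃ (h : H) (y : A), x = ρ (h : G) y - y}) :
    ∑ h : H, ρ (h : G) x = 0 := by
  have : Submodule.span ℤ {x : A | ∃ (h : H) (y : A), x = ρ (h : G) y - y} ≤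
      LinearMap.ker (∑ h : H, ρ (h : G)) := Submodule.span_le.2 (by
    rintro _ ⟨k, y, rfl⟩
    simp only [SetLike.mem_coe, LinearMap.mem_ker, LinearMap.sum_apply, map_sub, Finset.sum_sub_distrib, sub_eq_zero]
    exact Fintype.sum_equiv (Equiv.mulRight k) _ _ fun h => by simp [map_mul])
  simpa using this hx

theorem perm_flasque (ι : Type) [Finite ι] [MulAction G ι] : IsFlasque (perm (G := G) ι) := by
  intro H p hp
  classical
  haveI := Fintype.ofFinite H
  rw [finsum_eq_sum_of_fintype] at hp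
  set S := Submodule.span ℤ {x : ι →₀ ℤ | ∃ (h : H) (y : ι →₀ ℤ), x = perm ι (h : G) y - y}
  let r : ι → ι := fun i => (Quotient.mk (MulAction.orbitRel H ι) i).out
  have hr : ∀ i, ∃ h : H, (h : G) • r i = i := fun i => by
    obtain ⟨h, hh⟩ := Quotient.exact (Quotient.out_eq (Quotient.mk (MulAction.orbitRel H ι) i)).symm
    exact ⟨h, hh⟩
  have hrh : ∀ (h : H) i, r ((h : G) • i) = r i := fun h i => by
    simp only [r]; congr 1; exact Quotient.sound ⟨h, rfl⟩
  have hd : ∀ q, q - Finsupp.mapDomain r q ∈ S := fun q => by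
    induction q using Finsupp.induction_linear with
    | zero => simp
    | add a b ha hb => rw [Finsupp.mapDomain_add, add_sub_add_comm]; exact S.add_mem ha hb
    | single i c =>
      obtain ⟨h, hh⟩ := hr i
      exact Submodule.subset_span ⟨h, Finsupp.single (r i) c, by rw [perm_single, hh, Finsupp.mapDomain_single]⟩
  suffices hx : Finsupp.mapDomain r p = 0 by simpa [hx] using hd p
  set x := Finsupp.mapDomain r p
  have hN : ∑ h : H, perm ι (h : G) x = 0 := by
    have := norm_sub_mem (perm ι) (hd p)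
    simpa [map_sub, Finset.sum_sub_distrib, hp] using this
  have hx0 : ∀ i, r i ≠ i → x i = 0 := fun i hi => Finsupp.mapDomain_notin_range _ _ fun ⟨j, hj⟩ => hi (by
    obtain ⟨h, hh⟩ := hr j
    rw [← hj]
    conv_rhs => rw [← hh, hrh, ]
  )
  refine Finsupp.ext fun i => ?_
  by_contra hne
  have hi : r i = i := by by_contra h; exact hne (hx0 i h)
  have e : ∀ h : H, x ((h : G)⁻¹ • i) = if (h : G)⁻¹ • i = i then x i else 0 := fun h => by
    split_ifs with hh
    · rw [hh]
    · refine hx0 _ fun e => hh ?_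
      have := hrh h⁻¹ i
      rw [hi] at this
      rw [← e]; exact this
  have hs := DFunLike.congr_fun hN i
  simp only [Finsupp.finsetSum_apply, perm_apply, e, Finset.sum_ite, Finset.sum_const_zero, add_zero,
    Finset.sum_const, Finsupp.zero_apply, smul_eq_zero] at hs
  rcases hs with hs | hs
  · exact Finset.card_ne_zero.2 ⟨1, by simp⟩ hs
  · exact hne hs
section
variable {A B C : Type} [AddCommGroup A] [AddCommGroup B] [AddCommGroup C]
variable {ρ : Representation ℤ G A} {σ : Representation ℤ G B} {τ : Representation ℤ G C}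
variable {i : A →ₗ[ℤ] B} {π : B →ₗ[ℤ] C}

omit [Finite G] in
/-- the middle of an extension of coflasque modules is coflasque -/
theorem coflasque_ext (hρ : IsCoflasque ρ) (hτ : IsCoflasque τ) (hei : IsEquivariant ρ σ i) (heπ : IsEquivariant σ τ π)
    (hi : Function.Injective i) (hπ : Function.Surjective π) (hex : LinearMap.range i = LinearMap.ker π) :
    IsCoflasque σ := by
  intro H f hf
  obtain ⟨m, hm⟩ := hτ H (fun a => π (f a)) (fun a b => by rw [hf, map_add, heπ])
  obtain ⟨m', rfl⟩ := hπ m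
  have hk : ∀ a : H, f a - (σ (a : G) m' - m') ∈ LinearMap.range i := fun a => by
    rw [hex, LinearMap.mem_ker, map_sub, map_sub, heπ, hm a, sub_self]
  choose g hg using hk
  obtain ⟨n, hn⟩ := hρ H g (fun a b => hi (by
    rw [map_add, hei, hg, hg, hg, hf, map_sub, map_sub]
    have e : σ ((a * b : H) : G) m' = σ (a : G) (σ (b : G) m') := by simp [map_mul]
    rw [e]; abel))
  refine ⟨m' + i n, fun a => ?_⟩
  have := congrArg i (hn a)
  rw [hg, map_sub, hei] at this
  rw [map_add, eq_add_of_sub_eq this]; abel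

/-- the kernel of a cover surjective on fixed points by a coflasque module is coflasque -/
theorem coflasque_ker (hσ : IsCoflasque σ) (hei : IsEquivariant ρ σ i) (heπ : IsEquivariant σ τ π)
    (hi : Function.Injective i) (hex : LinearMap.range i = LinearMap.ker π)
    (hfix : ∀ (H : Subgroup G) (c : C), (∀ a : H, τ (a : G) c = c) → ∃ b, π b = c ∧ ∀ a : H, σ (a : G) b = b) :
    IsCoflasque ρ := by
  intro H f hf
  obtain ⟨m, hm⟩ := hσ H (fun a => i (f a)) (fun a b => by rw [hf, map_add, hei])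
  have hfix' : ∀ a : H, τ (a : G) (π m) = π m := fun a => by
    rw [← heπ, ← sub_eq_zero, ← map_sub, ← hm a, ← LinearMap.mem_ker, ← hex]
    exact ⟨_, rfl⟩
  obtain ⟨b, hb, hbf⟩ := hfix H (π m) hfix'
  obtain ⟨n, hn⟩ : m - b ∈ LinearMap.range i := by rw [hex, LinearMap.mem_ker, map_sub, hb, sub_self]
  refine ⟨n, fun a => hi ?_⟩
  rw [hm a, map_sub, hei, hn, map_sub, hbf]; abel

/-- the middle of an extension of flasque modules is flasque -/
theorem flasque_ext (hρ : IsFlasque ρ) (hτ : IsFlasque τ) (hei : IsEquivariant ρ σ i) (heπ : IsEquivariant σ τ π)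
    (hi : Function.Injective i) (hπ : Function.Surjective π) (hex : LinearMap.range i = LinearMap.ker π) :
    IsFlasque σ := by
  intro H m hm
  have hei' : ∀ g x, i (ρ g x) = σ g (i x) := hei
  have heπ' : ∀ g x, π (σ g x) = τ g (π x) := heπ
  haveI := Fintype.ofFinite H
  rw [finsum_eq_sum_of_fintype] at hm
  have h1 : π m ∈ (Submodule.span ℤ {x : B | ∃ (h : H) (y : B), x = σ (h : G) y - y}).map π := by
    have h := hτ H (π m) (by rw [finsum_eq_sum_of_fintype]; simp only [← heπ', ← map_sum, hm, map_zero])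
    refine Submodule.span_le.2 ?_ h
    rintro _ ⟨k, y, rfl⟩
    obtain ⟨y, rfl⟩ := hπ y
    exact ⟨σ (k : G) y - y, Submodule.subset_span ⟨k, y, rfl⟩, by rw [map_sub, heπ]⟩
  obtain ⟨x, hx, hπx⟩ := h1
  obtain ⟨a, ha⟩ : m - x ∈ LinearMap.range i := by rw [hex, LinearMap.mem_ker, map_sub, hπx, sub_self]
  have hNa : (∑ᶠ h : H, ρ (h : G) a) = 0 := hi (by
    rw [finsum_eq_sum_of_fintype, map_sum, map_zero]
    simp only [hei', ha, map_sub, Finset.sum_sub_distrib, hm, norm_sub_mem σ hx, sub_zero])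
  have h2 : i a ∈ Submodule.span ℤ {x : B | ∃ (h : H) (y : B), x = σ (h : G) y - y} := by
    refine (Submodule.span_le.2 ?_ : Submodule.span ℤ _ ≤ (Submodule.span ℤ {x : B | ∃ (h : H) (y : B), x = σ (h : G) y - y}).comap i) (hρ H a hNa)
    rintro _ ⟨k, y, rfl⟩
    exact Submodule.subset_span ⟨k, i y, by rw [map_sub, hei]⟩
  rw [← sub_add_cancel m x, ← ha]
  exact Submodule.add_mem _ h2 hx

/-- the cokernel of an embedding injective on Tate `Ĥ⁰` into a flasque module is flasque -/
theorem flasque_coker (hσ : IsFlasque σ) (hei : IsEquivariant ρ σ i) (heπ : IsEquivariant σ τ π)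
    (hi : Function.Injective i) (hπ : Function.Surjective π) (hex : LinearMap.range i = LinearMap.ker π)
    (hnorm : ∀ (H : Subgroup G) [Fintype H] (a : A) (b : B), (∀ h : H, ρ (h : G) a = a) →
      i a = ∑ h : H, σ (h : G) b → ∃ a', a = ∑ h : H, ρ (h : G) a') :
    IsFlasque τ := by
  intro H c hc
  have hei' : ∀ g x, i (ρ g x) = σ g (i x) := hei
  have heπ' : ∀ g x, π (σ g x) = τ g (π x) := heπ
  haveI := Fintype.ofFinite H
  rw [finsum_eq_sum_of_fintype] at hc
  obtain ⟨b, rfl⟩ := hπ c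
  obtain ⟨a, ha⟩ : (∑ h : H, σ (h : G) b) ∈ LinearMap.range i := by
    rw [hex, LinearMap.mem_ker, map_sum]; simpa only [heπ'] using hc
  have hfix : ∀ h : H, ρ (h : G) a = a := fun k => hi (by
    rw [hei, ha, map_sum]
    exact Fintype.sum_equiv (Equiv.mulLeft k) _ _ fun h => by simp [map_mul])
  obtain ⟨a', ha'⟩ := hnorm H a b hfix ha
  have hb := hσ H (b - i a') (by
    rw [finsum_eq_sum_of_fintype]
    simp only [map_sub, Finset.sum_sub_distrib, ← hei', ← map_sum, ← ha', ha, sub_self])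
  have e : π b = π (b - i a') := by
    have : π (i a') = 0 := by rw [← LinearMap.mem_ker, ← hex]; exact ⟨_, rfl⟩
    rw [map_sub, this, sub_zero]
  rw [e]
  refine (Submodule.span_le.2 ?_ : Submodule.span ℤ _ ≤ (Submodule.span ℤ {x : C | ∃ (h : H) (y : C), x = τ (h : G) y - y}).comap π) hb
  rintro _ ⟨k, y, rfl⟩
  exact Submodule.subset_span ⟨k, π y, by rw [map_sub, heπ]⟩

end
section Constr
variable {A B : Type} [AddCommGroup A] [AddCommGroup B]

/-- restriction to the kernel of an equivariant map -/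
noncomputable def kerRep {ρ : Representation ℤ G A} {σ : Representation ℤ G B} {π : A →ₗ[ℤ] B}
    (h : IsEquivariant ρ σ π) : Representation ℤ G (LinearMap.ker π) where
  toFun g := (ρ g).restrict (fun x hx => by rw [LinearMap.mem_ker, h, LinearMap.mem_ker.1 hx, map_zero])
  map_one' := LinearMap.ext fun x => Subtype.ext (by simp)
  map_mul' g k := LinearMap.ext fun x => Subtype.ext (by simp [map_mul])

/-- the quotient by the range of an equivariant map -/
noncomputable def cokerRep {ρ : Representation ℤ G A} {σ : Representation ℤ G B} {i : A →ₗ[ℤ] B}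
    (h : IsEquivariant ρ σ i) : Representation ℤ G (B ⧸ LinearMap.range i) where
  toFun g := (LinearMap.range i).mapQ _ (σ g) (by rintro _ ⟨a, rfl⟩; exact ⟨ρ g a, h g a⟩)
  map_one' := Submodule.linearMap_qext _ (LinearMap.ext fun x => by simp)
  map_mul' g k := Submodule.linearMap_qext _ (LinearMap.ext fun x => by simp [map_mul])

theorem exists_cover [Module.Finite ℤ A] (ρ : Representation ℤ G A) :
    ∃ (ι : Type) (_ : MulAction G ι) (_ : Finite ι) (π : (ι →₀ ℤ) →ₗ[ℤ] A),
      IsEquivariant (perm ι) ρ π ∧ Function.Surjective π ∧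
      ∀ (H : Subgroup G) (c : A), (∀ a : H, ρ (a : G) c = c) → ∃ b, π b = c ∧ ∀ a : H, perm ι (a : G) b = b := by
  classical
  let Fix : Subgroup G → Submodule ℤ A := fun H => ⨅ a : H, LinearMap.ker (ρ (a : G) - 1)
  have hFix : ∀ {H c}, c ∈ Fix H ↔ ∀ a : H, ρ (a : G) c = c := by
    intro H c
    simp [Fix, Submodule.mem_iInf, sub_eq_zero]
  have hgen := fun H => Submodule.fg_iff_exists_fin_generating_family.1 (IsNoetherian.noetherian (Fix H))
  choose n gen hspan using hgen
  letI act : ∀ H : Subgroup G, MulAction G ((G ⧸ H) × Fin (n H)) := fun H =>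
    { smul := fun g x => (g • x.1, x.2)
      mul_smul := fun g k x => Prod.ext (mul_smul g k x.1) rfl
      one_smul := fun x => Prod.ext (one_smul G x.1) rfl }
  letI : MulAction G (Σ H : Subgroup G, (G ⧸ H) × Fin (n H)) :=
    { smul := fun g x => ⟨x.1, g • x.2⟩
      mul_smul := fun g k x => Sigma.ext rfl (heq_of_eq (mul_smul g k x.2))
      one_smul := fun x => Sigma.ext rfl (heq_of_eq (one_smul G x.2)) }
  have hmem : ∀ H j, gen H j ∈ Fix H := fun H j => (hspan H) ▸ Submodule.subset_span ⟨j, rfl⟩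
  let φ : (H : Subgroup G) → (G ⧸ H) → Fin (n H) → A := fun H q j =>
    Quotient.liftOn' q (fun g => ρ g (gen H j)) (fun g k hgk => by
      have := hFix.1 (hmem H j) ⟨g⁻¹ * k, QuotientGroup.leftRel_apply.1 hgk⟩
      conv_lhs => rw [← this, ← Module.End.mul_apply, ← map_mul, mul_inv_cancel_left])
  refine ⟨(Σ H : Subgroup G, (G ⧸ H) × Fin (n H)), inferInstance, inferInstance,
    Finsupp.linearCombination ℤ fun x => φ x.1 x.2.1 x.2.2, ?_, ?_, ?_⟩
  · intro g m
    induction m using Finsupp.induction_linear with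
    | zero => simp
    | add a b ha hb => simp [ha, hb]
    | single x c =>
      obtain ⟨H, q, j⟩ := x
      induction q using QuotientGroup.induction_on with
      | _ k =>
        rw [perm_single, Finsupp.linearCombination_single, Finsupp.linearCombination_single, map_zsmul]
        congr 1
        exact (LinearMap.congr_fun (map_mul ρ g k) (gen H j))
  rotate_left
  all_goals
    have key : ∀ H c, c ∈ Fix H → ∃ b, Finsupp.linearCombination ℤ
        (fun x : (Σ H : Subgroup G, (G ⧸ H) × Fin (n H)) => φ x.1 x.2.1 x.2.2) b = c ∧ ∀ a : H, perm _ (a : G) b = b := by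
      intro H c hc
      rw [← hspan H] at hc
      obtain ⟨w, hw⟩ := (Submodule.mem_span_range_iff_exists_fun ℤ).1 hc
      refine ⟨∑ j, w j • Finsupp.single ⟨H, ((1 : G) : G ⧸ H), j⟩ 1, ?_, fun a => ?_⟩
      · rw [← hw]; simp [φ]
      · rw [map_sum]
        refine Finset.sum_congr rfl fun j _ => ?_
        rw [map_zsmul, perm_single]
        congr 2
        refine Sigma.ext rfl (heq_of_eq (Prod.ext ?_ rfl))
        show (((a : G) * 1 : G) : G ⧸ H) = ((1 : G) : G ⧸ H)
        exact QuotientGroup.eq.2 (by simp)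
  · exact fun H c hc => key H c (hFix.2 hc)
  · exact fun c => (key ⊥ c (hFix.2 fun a => by rw [Subgroup.mem_bot.1 a.2]; simp)).imp fun b h => h.1

theorem exists_coflasque_res [Module.Finite ℤ A] (ρ : Representation ℤ G A) :
    ∃ (Q : Type) (_ : AddCommGroup Q) (P : Type) (_ : AddCommGroup P)
      (_ : Module.Finite ℤ Q) (_ : Module.Free ℤ Q) (_ : Module.Finite ℤ P) (_ : Module.Free ℤ P)
      (σ : Representation ℤ G Q) (τ : Representation ℤ G P) (i : Q →ₗ[ℤ] P) (π : P →ₗ[ℤ] A),
      IsEquivariant σ τ i ∧ IsEquivariant τ ρ π ∧ Function.Injective i ∧ Function.Surjective π ∧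
      LinearMap.range i = LinearMap.ker π ∧ IsPermutation τ ∧ IsCoflasque σ := by
  obtain ⟨ι, _, _, π, he, hs, hfix⟩ := exists_cover ρ
  refine ⟨LinearMap.ker π, inferInstance, ι →₀ ℤ, inferInstance, inferInstance, inferInstance, inferInstance,
    inferInstance, kerRep he, perm ι, (LinearMap.ker π).subtype, π, fun g m => rfl, he, Subtype.val_injective, hs,
    Submodule.range_subtype _, perm_isPermutation ι, ?_⟩
  exact coflasque_ker (perm_coflasque ι) (fun g m => rfl) he Subtype.val_injective (Submodule.range_subtype _) hfix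

omit [Finite G] in
theorem free_coker {i : A →ₗ[ℤ] B} [Module.Finite ℤ B] [Module.Free ℤ B] (r : B →ₗ[ℤ] A) (hr : ∀ a, r (i a) = a) :
    Module.Free ℤ (B ⧸ LinearMap.range i) := by
  haveI : Module.IsTorsionFree ℤ (B ⧸ LinearMap.range i) := by
    refine Module.isTorsionFree_iff_smul_eq_zero.2 fun n x hx => ?_
    rcases eq_or_ne n 0 with h | h
    · exact Or.inl h
    refine Or.inr ?_
    induction x using Submodule.Quotient.induction_on with
    | _ x =>
      rw [← Submodule.Quotient.mk_smul, Submodule.Quotient.mk_eq_zero] at hx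
      obtain ⟨a, ha⟩ := hx
      rw [Submodule.Quotient.mk_eq_zero]
      refine ⟨r x, ?_⟩
      have : a = n • r x := by rw [← map_zsmul, ← ha, hr]
      rw [this, map_zsmul] at ha
      exact smul_right_injective B h ha
  exact Module.free_of_finite_type_torsion_free'

theorem exists_embedding [Module.Finite ℤ A] [Module.Free ℤ A] (ρ : Representation ℤ G A) :
    ∃ (ι : Type) (_ : MulAction G ι) (_ : Finite ι) (i : A →ₗ[ℤ] (ι →₀ ℤ)) (r : (ι →₀ ℤ) →ₗ[ℤ] A),
      IsEquivariant ρ (perm ι) i ∧ (∀ a, r (i a) = a) ∧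
      ∀ (H : Subgroup G) [Fintype H] (a : A) (b : ι →₀ ℤ), (∀ h : H, ρ (h : G) a = a) →
        i a = ∑ h : H, perm ι (h : G) b → ∃ a', a = ∑ h : H, ρ (h : G) a' := by
  classical
  let fin : ∀ H : Subgroup G, Fintype H := fun H => Fintype.ofFinite H
  let N : Subgroup G → (A →ₗ[ℤ] A) := fun H => ∑ h : H, ρ (h : G)
  let n : Subgroup G → ℕ := fun H => Module.finrank ℤ (LinearMap.range (N H))
  let bN : ∀ H, Module.Basis (Fin (n H)) ℤ (LinearMap.range (N H)) := fun H => Module.finBasis ℤ _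
  letI act : ∀ H : Subgroup G, MulAction G ((G ⧸ H) × Fin (n H)) := fun H =>
    { smul := fun g x => (g • x.1, x.2)
      mul_smul := fun g k x => Prod.ext (mul_smul g k x.1) rfl
      one_smul := fun x => Prod.ext (one_smul G x.1) rfl }
  letI : MulAction G (Σ H : Subgroup G, (G ⧸ H) × Fin (n H)) :=
    { smul := fun g x => ⟨x.1, g • x.2⟩
      mul_smul := fun g k x => Sigma.ext rfl (heq_of_eq (mul_smul g k x.2))
      one_smul := fun x => Sigma.ext rfl (heq_of_eq (one_smul G x.2)) }
  have hNinv : ∀ (H : Subgroup G) (h : H) (a : A), N H (ρ (h : G) a) = N H a := fun H h a => by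
    simp only [N, LinearMap.sum_apply]
    exact Fintype.sum_equiv (Equiv.mulRight h) _ _ fun k => by simp [map_mul]
  let φ : (H : Subgroup G) → (G ⧸ H) → Fin (n H) → (A →ₗ[ℤ] ℤ) := fun H q j =>
    Quotient.liftOn' q (fun g => (bN H).coord j ∘ₗ (N H).rangeRestrict ∘ₗ ρ g⁻¹) (fun g k hgk => by
      refine LinearMap.ext fun a => congrArg ((bN H).coord j) (Subtype.ext ?_)
      have := hNinv H ⟨g⁻¹ * k, QuotientGroup.leftRel_apply.1 hgk⟩ (ρ k⁻¹ a)
      simpa [← Module.End.mul_apply, ← map_mul, mul_assoc] using this)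
  let i : A →ₗ[ℤ] ((Σ H : Subgroup G, (G ⧸ H) × Fin (n H)) →₀ ℤ) :=
    (Finsupp.linearEquivFunOnFinite ℤ ℤ _).symm.toLinearMap ∘ₗ LinearMap.pi fun x => φ x.1 x.2.1 x.2.2
  have hi : ∀ a H (g : G) j, i a ⟨H, (g : G ⧸ H), j⟩ = (bN H).coord j ((N H).rangeRestrict (ρ g⁻¹ a)) :=
    fun a H g j => rfl
  let r : ((Σ H : Subgroup G, (G ⧸ H) × Fin (n H)) →₀ ℤ) →ₗ[ℤ] A :=
    ∑ j, (Finsupp.lapply ⟨⊥, ((1 : G) : G ⧸ (⊥ : Subgroup G)), j⟩).smulRight ((bN ⊥ j : A))
  refine ⟨_, inferInstance, inferInstance, i, r, ?_, ?_, ?_⟩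
  · intro g a
    ext ⟨H, q, j⟩
    induction q using QuotientGroup.induction_on with
    | _ k =>
      rw [perm_apply]
      show i (ρ g a) ⟨H, (k : G ⧸ H), j⟩ = i a ⟨H, ((g⁻¹ * k : G) : G ⧸ H), j⟩
      rw [hi, hi, mul_inv_rev, inv_inv, map_mul, Module.End.mul_apply]
  · intro a
    have hN1 : N ⊥ a = a := by
      simp only [N, LinearMap.sum_apply]
      rw [Fintype.sum_subsingleton _ (⟨1, Subgroup.one_mem _⟩ : (⊥ : Subgroup G))]; simp
    simp only [r, LinearMap.sum_apply, LinearMap.smulRight_apply, Finsupp.lapply_apply, hi, inv_one, map_one,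
      Module.End.one_apply, Module.Basis.coord_apply, ← Submodule.coe_smul, ← AddSubmonoidClass.coe_finsetSum,
      (bN ⊥).sum_repr]
    exact hN1
  · intro H inst a b hfix hab
    obtain rfl : inst = fin H := Subsingleton.elim _ _
    set c : ℕ := Fintype.card H
    have hc : (c : ℤ) ≠ 0 := by simp [c, Fintype.card_ne_zero]
    have hNa : N H a = (c : ℤ) • a := by
      simp only [N, LinearMap.sum_apply, hfix, Finset.sum_const, Finset.card_univ, natCast_zsmul, c]
    have hcoord : ∀ j, (bN H).coord j ((N H).rangeRestrict a) = (c : ℤ) * b ⟨H, ((1 : G) : G ⧸ H), j⟩ := fun j => by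
      have := DFunLike.congr_fun hab ⟨H, ((1 : G) : G ⧸ H), j⟩
      rw [hi, inv_one, map_one, Module.End.one_apply] at this
      rw [this, Finsupp.finsetSum_apply]
      have e : ∀ h : H, (h : G)⁻¹ • (⟨H, ((1 : G) : G ⧸ H), j⟩ : Σ H : Subgroup G, (G ⧸ H) × Fin (n H)) =
          ⟨H, ((1 : G) : G ⧸ H), j⟩ := fun h => by
        refine Sigma.ext rfl (heq_of_eq (Prod.ext ?_ rfl))
        show (((h : G)⁻¹ * 1 : G) : G ⧸ H) = ((1 : G) : G ⧸ H)
        exact QuotientGroup.eq.2 (by simp)
      refine (Finset.sum_congr rfl fun h _ => ?_).trans (b := ∑ _h : H, b ⟨H, ((1 : G) : G ⧸ H), j⟩) (by simp [c])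
      rw [perm_apply]; exact congrArg b (e h)
    obtain ⟨a', ha'⟩ := (∑ j, b ⟨H, ((1 : G) : G ⧸ H), j⟩ • bN H j : LinearMap.range (N H)).2
    refine ⟨a', smul_right_injective A hc ?_⟩
    show (c : ℤ) • a = (c : ℤ) • ∑ h : H, ρ (h : G) a'
    rw [← hNa, show (∑ h : H, ρ (h : G) a') = N H a' by simp [N], ha', ← Submodule.coe_smul]
    show ((N H).rangeRestrict a : A) = _
    congr 1
    refine (bN H).ext_elem fun j => ?_
    rw [← Module.Basis.coord_apply, hcoord, map_zsmul, Finsupp.smul_apply, (bN H).repr_sum_self, smul_eq_mul]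

theorem exists_flasque_coker [Module.Finite ℤ A] [Module.Free ℤ A] (ρ : Representation ℤ G A) :
    ∃ (P : Type) (_ : AddCommGroup P) (F : Type) (_ : AddCommGroup F)
      (_ : Module.Finite ℤ P) (_ : Module.Free ℤ P) (_ : Module.Finite ℤ F) (_ : Module.Free ℤ F)
      (σ : Representation ℤ G P) (τ : Representation ℤ G F) (i : A →ₗ[ℤ] P) (π : P →ₗ[ℤ] F),
      IsEquivariant ρ σ i ∧ IsEquivariant σ τ π ∧ Function.Injective i ∧ Function.Surjective π ∧
      LinearMap.range i = LinearMap.ker π ∧ IsPermutation σ ∧ IsFlasque τ := by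
  obtain ⟨ι, _, _, i, r, he, hr, hn⟩ := exists_embedding ρ
  haveI := free_coker (A := A) r hr
  have hi : Function.Injective i := Function.LeftInverse.injective hr
  refine ⟨ι →₀ ℤ, inferInstance, (ι →₀ ℤ) ⧸ LinearMap.range i, inferInstance, inferInstance, inferInstance,
    inferInstance, inferInstance, perm ι, cokerRep he, i, (LinearMap.range i).mkQ, he, fun g m => rfl, hi,
    Submodule.mkQ_surjective _, (Submodule.ker_mkQ _).symm, perm_isPermutation ι, ?_⟩
  exact flasque_coker (perm_flasque ι) he (fun g m => rfl) hi (Submodule.mkQ_surjective _) (Submodule.ker_mkQ _).symm hn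

theorem exists_coflasque_env [Module.Finite ℤ A] [Module.Free ℤ A] (ρ : Representation ℤ G A) :
    ∃ (Q : Type) (_ : AddCommGroup Q) (P : Type) (_ : AddCommGroup P)
      (_ : Module.Finite ℤ Q) (_ : Module.Free ℤ Q) (_ : Module.Finite ℤ P) (_ : Module.Free ℤ P)
      (σ : Representation ℤ G Q) (τ : Representation ℤ G P) (i : A →ₗ[ℤ] Q) (π : Q →ₗ[ℤ] P),
      IsEquivariant ρ σ i ∧ IsEquivariant σ τ π ∧ Function.Injective i ∧ Function.Surjective π ∧
      LinearMap.range i = LinearMap.ker π ∧ IsCoflasque σ ∧ IsPermutation τ := by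
  obtain ⟨ι, _, _, j, r, he, hr, -⟩ := exists_embedding ρ
  obtain ⟨κ, _, _, q, hq, hqs, hfix⟩ := exists_cover (cokerRep he)
  let d : ((ι →₀ ℤ) × (κ →₀ ℤ)) →ₗ[ℤ] ((ι →₀ ℤ) ⧸ LinearMap.range j) :=
    (LinearMap.range j).mkQ ∘ₗ LinearMap.fst ℤ _ _ - q ∘ₗ LinearMap.snd ℤ _ _
  have hd : IsEquivariant ((perm ι).prod (perm κ)) (cokerRep he) d := fun g x => by
    obtain ⟨x, y⟩ := x
    show (LinearMap.range j).mkQ (perm ι g x) - q (perm κ g y) = cokerRep he g ((LinearMap.range j).mkQ x - q y)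
    rw [map_sub, hq]; rfl
  have hmem : ∀ x y, (x, y) ∈ LinearMap.ker d ↔ (LinearMap.range j).mkQ x = q y := fun x y => by
    simp [d, LinearMap.mem_ker, sub_eq_zero]
  let i : A →ₗ[ℤ] LinearMap.ker d := ((LinearMap.inl ℤ _ _) ∘ₗ j).codRestrict _ fun a => (hmem _ _).2
    (by show (LinearMap.range j).mkQ (j a) = q 0; rw [map_zero, Submodule.mkQ_apply, Submodule.Quotient.mk_eq_zero]; exact ⟨a, rfl⟩)
  let π : LinearMap.ker d →ₗ[ℤ] (κ →₀ ℤ) := LinearMap.snd ℤ _ _ ∘ₗ (LinearMap.ker d).subtype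
  have hie : IsEquivariant ρ (kerRep hd) i := fun g a => Subtype.ext (Prod.ext (he g a) (map_zero (perm κ g)).symm)
  have hπe : IsEquivariant (kerRep hd) (perm κ) π := fun g x => rfl
  have hii : Function.Injective i := fun a b h =>
    Function.LeftInverse.injective hr (congrArg (fun x : LinearMap.ker d => x.1.1) h)
  have hπs : Function.Surjective π := fun y => by
    obtain ⟨x, hx⟩ := Submodule.mkQ_surjective _ (q y)
    exact ⟨⟨(x, y), (hmem x y).2 hx⟩, rfl⟩
  have hex : LinearMap.range i = LinearMap.ker π := by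
    refine le_antisymm (by rintro _ ⟨a, rfl⟩; rfl) ?_
    rintro ⟨⟨x, y⟩, hxy⟩ hy
    obtain rfl : y = 0 := hy
    have := (hmem x 0).1 hxy
    rw [map_zero, Submodule.mkQ_apply, Submodule.Quotient.mk_eq_zero] at this
    obtain ⟨a, ha⟩ := this
    exact ⟨a, Subtype.ext (Prod.ext ha rfl)⟩
  let C : LinearMap.ker q →ₗ[ℤ] LinearMap.ker d :=
    ((LinearMap.inr ℤ _ _) ∘ₗ (LinearMap.ker q).subtype).codRestrict _ fun c => (hmem _ _).2 (by
      show (LinearMap.range j).mkQ 0 = q c
      rw [map_zero]; exact (LinearMap.mem_ker.1 c.2).symm)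
  have hco : IsCoflasque (kerRep hd) := by
    refine coflasque_ext (i := C) (π := LinearMap.fst ℤ _ _ ∘ₗ (LinearMap.ker d).subtype) (ρ := kerRep hq)
      (coflasque_ker (perm_coflasque κ) (fun g m => rfl) hq Subtype.val_injective (Submodule.range_subtype _) hfix)
      (perm_coflasque ι) (fun g c => Subtype.ext (Prod.ext (map_zero (perm ι g)).symm rfl)) (fun g x => rfl)
      (fun a b h => Subtype.ext (congrArg (fun x : LinearMap.ker d => x.1.2) h)) (fun x => ?_) ?_
    · obtain ⟨y, hy⟩ := hqs ((LinearMap.range j).mkQ x)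
      exact ⟨⟨(x, y), (hmem x y).2 hy.symm⟩, rfl⟩
    · refine le_antisymm (by rintro _ ⟨a, rfl⟩; rfl) ?_
      rintro ⟨⟨x, y⟩, hxy⟩ hx
      obtain rfl : x = 0 := hx
      have := (hmem 0 y).1 hxy
      rw [map_zero] at this
      exact ⟨⟨y, LinearMap.mem_ker.2 this.symm⟩, rfl⟩
  exact ⟨LinearMap.ker d, inferInstance, κ →₀ ℤ, inferInstance, inferInstance, inferInstance, inferInstance,
    inferInstance, kerRep hd, perm κ, i, π, hie, hπe, hii, hπs, hex, hco, perm_isPermutation κ⟩

theorem exists_flasque_cover [Module.Finite ℤ A] (ρ : Representation ℤ G A) :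
    ∃ (P : Type) (_ : AddCommGroup P) (F : Type) (_ : AddCommGroup F)
      (_ : Module.Finite ℤ P) (_ : Module.Free ℤ P) (_ : Module.Finite ℤ F) (_ : Module.Free ℤ F)
      (σ : Representation ℤ G P) (τ : Representation ℤ G F) (i : P →ₗ[ℤ] F) (π : F →ₗ[ℤ] A),
      IsEquivariant σ τ i ∧ IsEquivariant τ ρ π ∧ Function.Injective i ∧ Function.Surjective π ∧
      LinearMap.range i = LinearMap.ker π ∧ IsPermutation σ ∧ IsFlasque τ := by
  obtain ⟨κ, _, _, q, hq, hqs, -⟩ := exists_cover ρ
  obtain ⟨ι, _, _, j, r, he, hr, hn⟩ := exists_embedding (kerRep hq)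
  have hji : Function.Injective j := Function.LeftInverse.injective hr
  let e : LinearMap.ker q →ₗ[ℤ] ((ι →₀ ℤ) × (κ →₀ ℤ)) := j.prod (-(LinearMap.ker q).subtype)
  have hee : IsEquivariant (kerRep hq) ((perm ι).prod (perm κ)) e := fun g k =>
    Prod.ext (he g k) (map_neg (perm κ g) _).symm
  let mk := (LinearMap.range e).mkQ
  let i : (ι →₀ ℤ) →ₗ[ℤ] ((ι →₀ ℤ) × (κ →₀ ℤ)) ⧸ LinearMap.range e := mk ∘ₗ LinearMap.inl ℤ _ _
  let π : ((ι →₀ ℤ) × (κ →₀ ℤ)) ⧸ LinearMap.range e →ₗ[ℤ] A :=
    (LinearMap.range e).liftQ (q ∘ₗ LinearMap.snd ℤ _ _) (by rintro _ ⟨k, rfl⟩; simp [e])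
  let b : (κ →₀ ℤ) →ₗ[ℤ] ((ι →₀ ℤ) × (κ →₀ ℤ)) ⧸ LinearMap.range e := mk ∘ₗ LinearMap.inr ℤ _ _
  let p : ((ι →₀ ℤ) × (κ →₀ ℤ)) ⧸ LinearMap.range e →ₗ[ℤ] (ι →₀ ℤ) ⧸ LinearMap.range j :=
    (LinearMap.range e).liftQ ((LinearMap.range j).mkQ ∘ₗ LinearMap.fst ℤ _ _) (by
      rintro _ ⟨k, rfl⟩
      simp [e, (Submodule.Quotient.mk_eq_zero (LinearMap.range j)).2 ⟨k, rfl⟩])
  have hii : Function.Injective i := by
    rw [← LinearMap.ker_eq_bot, eq_bot_iff]
    intro x hx
    simp only [i, mk, LinearMap.mem_ker, LinearMap.comp_apply, LinearMap.inl_apply, Submodule.mkQ_apply,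
      Submodule.Quotient.mk_eq_zero] at hx
    obtain ⟨k, hk⟩ := hx
    have h2 : -(k : κ →₀ ℤ) = 0 := congrArg Prod.snd hk
    have h1 : j k = x := congrArg Prod.fst hk
    rw [show k = 0 from Subtype.ext (neg_eq_zero.1 h2), map_zero] at h1
    exact (Submodule.mem_bot ℤ).2 h1.symm
  have hbi : Function.Injective b := by
    rw [← LinearMap.ker_eq_bot, eq_bot_iff]
    intro x hx
    simp only [b, mk, LinearMap.mem_ker, LinearMap.comp_apply, LinearMap.inr_apply, Submodule.mkQ_apply,
      Submodule.Quotient.mk_eq_zero] at hx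
    obtain ⟨k, hk⟩ := hx
    have h2 : -(k : κ →₀ ℤ) = x := congrArg Prod.snd hk
    have h1 : j k = 0 := congrArg Prod.fst hk
    rw [← map_zero j] at h1
    rw [hji h1] at h2
    exact (Submodule.mem_bot ℤ).2 (by simpa using h2.symm)
  have hbex : LinearMap.range b = LinearMap.ker p := by
    refine le_antisymm (by rintro _ ⟨a, rfl⟩; simp [b, p, mk]) fun z hz => ?_
    induction z using Submodule.Quotient.induction_on with
    | _ z =>
      obtain ⟨x, y⟩ := z
      simp only [LinearMap.mem_ker, p, Submodule.liftQ_apply, LinearMap.comp_apply, LinearMap.fst_apply,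
        Submodule.mkQ_apply, Submodule.Quotient.mk_eq_zero] at hz
      obtain ⟨k, rfl⟩ := hz
      refine ⟨y + k, (Submodule.Quotient.eq _).2 ⟨-k, ?_⟩⟩
      simp [e]
  have hps : Function.Surjective p := fun z => by
    obtain ⟨x, rfl⟩ := Submodule.mkQ_surjective _ z
    exact ⟨mk (x, 0), rfl⟩
  have hpe : IsEquivariant (cokerRep hee) (cokerRep he) p := fun g z => by
    induction z using Submodule.Quotient.induction_on with
    | _ z => rfl
  haveI := free_coker (i := j) r hr
  haveI : Module.Free ℤ (((ι →₀ ℤ) × (κ →₀ ℤ)) ⧸ LinearMap.range e) := by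
    haveI : Module.IsTorsionFree ℤ (((ι →₀ ℤ) × (κ →₀ ℤ)) ⧸ LinearMap.range e) := by
      refine Module.isTorsionFree_iff_smul_eq_zero.2 fun n z hz => ?_
      rcases eq_or_ne n 0 with h | h
      · exact Or.inl h
      have hp0 : p z = 0 := smul_right_injective _ h (show n • p z = n • (0 : _) by rw [← map_zsmul, hz, map_zero, smul_zero])
      obtain ⟨y, rfl⟩ : z ∈ LinearMap.range b := hbex ▸ LinearMap.mem_ker.2 hp0
      rw [← map_zsmul, ← map_zero b] at hz
      exact Or.inr (by rw [(smul_eq_zero.1 (hbi hz)).resolve_left h, map_zero])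
    exact Module.free_of_finite_type_torsion_free'
  refine ⟨ι →₀ ℤ, inferInstance, ((ι →₀ ℤ) × (κ →₀ ℤ)) ⧸ LinearMap.range e, inferInstance, inferInstance,
    inferInstance, inferInstance, inferInstance, perm ι, cokerRep hee, i, π, ?_, ?_, hii, ?_, ?_, perm_isPermutation ι, ?_⟩
  · intro g x
    exact congrArg mk (Prod.ext rfl (map_zero (perm κ g)).symm)
  · intro g z
    induction z using Submodule.Quotient.induction_on with
    | _ z => exact hq g z.2
  · intro a
    obtain ⟨y, hy⟩ := hqs a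
    exact ⟨mk (0, y), hy⟩
  · refine le_antisymm (by rintro _ ⟨a, rfl⟩; simp [i, π, mk]) fun z hz => ?_
    induction z using Submodule.Quotient.induction_on with
    | _ z =>
      obtain ⟨x, y⟩ := z
      simp only [LinearMap.mem_ker, π, Submodule.liftQ_apply, LinearMap.comp_apply, LinearMap.snd_apply] at hz
      refine ⟨x + j ⟨y, hz⟩, (Submodule.Quotient.eq _).2 ⟨⟨y, hz⟩, ?_⟩⟩
      simp [e]
  · have hF' := flasque_coker (τ := cokerRep he) (π := (LinearMap.range j).mkQ) (perm_flasque ι) he (fun g m => rfl) hji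
      (Submodule.mkQ_surjective _) (Submodule.ker_mkQ _).symm hn
    exact flasque_ext (perm_flasque κ) hF' (i := b) (fun g y => congrArg mk (Prod.ext (map_zero (perm ι g)).symm rfl))
      hpe hbi hps hbex

end Constr
end Groth.Agent.GLatLib
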